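import Groth.Agent.Props.GenPull
import Groth.Agent.PicPurely.Range
import Groth.Agent.FEtPush.Scheme
import Mathlib.AlgebraicGeometry.Morphisms.Separated
import Mathlib.AlgebraicGeometry.Stalk

/-! # Functions on the base change to a local ring of the base are fractions -/

set_option autoImplicit false
set_option linter.style.haveILetI false
set_option backward.isDefEq.respectTransparency false
set_option backward.isDefEq.respectTransparency.types false

universe u

open CategoryTheory CategoryTheory.Limits AlgebraicGeometry Opposite TopologicalSpace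

noncomputable section

namespace Groth.Agent.PicSpreadLoc

open Groth.Agent.QCoh

variable {X S : Scheme.{u}}

/-- The functions on `U` not vanishing at `s`. -/
def nonVan (U : S.Opens) {s : S} (hs : s ∈ U) : Submonoid Γ(S, U) where
  carrier := {t | s ∈ S.basicOpen t}
  one_mem' := by
    show s ∈ S.basicOpen (1 : Γ(S, U))
    rw [Scheme.basicOpen_of_isUnit S isUnit_one]
    exact hs
  mul_mem' := fun {a b} ha hb => by
    show s ∈ S.basicOpen (a * b)
    rw [Scheme.basicOpen_mul]
    exact ⟨ha, hb⟩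

variable (f : X ⟶ S) (s : S)

/-- A function on the base, as a function on an open above. -/
abbrev baseFn {U : S.Opens} {W : X.Opens} (e : W ≤ f ⁻¹ᵁ U) (t : Γ(S, U)) : Γ(X, W) := f.appLE U W e t

lemma rres_baseFn {U : S.Opens} {W W' : X.Opens} (e : W ≤ f ⁻¹ᵁ U) (h : W' ≤ W) (t : Γ(S, U)) :
    rres h (baseFn f e t) = baseFn f (h.trans e) t :=
  ConcreteCategory.congr_hom (f.appLE_map e (homOfLE h).op) t

variable {U : S.Opens} {W : X.Opens}

theorem exists_fraction (hU : IsAffineOpen U) (hsU : s ∈ U) (hW : IsAffineOpen W) (e : W ≤ f ⁻¹ᵁ U)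
    (c : Γ(pullback f (S.fromSpecStalk s), pullback.fst f (S.fromSpecStalk s) ⁻¹ᵁ W)) :
    ∃ t ∈ nonVan U hsU, ∃ b : Γ(X, W), (pullback.fst f (S.fromSpecStalk s)).app W b =
      c * (pullback.fst f (S.fromSpecStalk s)).app W (baseFn f e t) := by
  let π := pullback.fst f (S.fromSpecStalk s)
  let i := S.fromSpecStalk s
  have hi : (⊤ : (Spec (S.presheaf.stalk s)).Opens) ≤ i ⁻¹ᵁ U := fun q _ =>
    ((Set.range_subset_iff.1 (Scheme.range_fromSpecStalk (X := S) (x := s)).le q) : i q ⤳ s).mem_open U.2 hsU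
  have hpo := FEtPush.isPushout_appLE (IsPullback.of_hasPullback f i) hU hW (isAffineOpen_top _) e hi
    (UQ := π ⁻¹ᵁ W) (inf_eq_left.2 fun _ _ => trivial).symm le_rfl (fun _ _ => trivial)
  let T : Subring Γ(pullback f i, π ⁻¹ᵁ W) :=
    { carrier := {c | ∃ t ∈ nonVan U hsU, ∃ b : Γ(X, W), π.app W b = c * π.app W (baseFn f e t)}
      one_mem' := ⟨1, one_mem _, 1, by simp only [baseFn, map_one, mul_one]⟩
      zero_mem' := ⟨1, one_mem _, 0, by simp only [map_zero, zero_mul]⟩
      mul_mem' := by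
        rintro c c' ⟨t, ht, b, hb⟩ ⟨t', ht', b', hb'⟩
        refine ⟨t * t', mul_mem ht ht', b * b', ?_⟩
        simp only [baseFn, map_mul] at hb hb' ⊢
        rw [hb, hb']; ring
      add_mem' := by
        rintro c c' ⟨t, ht, b, hb⟩ ⟨t', ht', b', hb'⟩
        refine ⟨t * t', mul_mem ht ht', b * baseFn f e t' + b' * baseFn f e t, ?_⟩
        simp only [baseFn, map_mul, map_add] at hb hb' ⊢
        rw [hb, hb']; ring
      neg_mem' := by
        rintro c ⟨t, ht, b, hb⟩
        exact ⟨t, ht, -b, by rw [map_neg, hb, neg_mul]⟩ }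
  have hT := PicPurely.eq_top_of_isPushout hpo T
    (fun b => ⟨1, one_mem _, b, by
      rw [← Scheme.Hom.app_eq_appLE]
      simp only [baseFn, map_one, mul_one]
      rfl⟩) (fun y => ?_)
  · exact (show c ∈ T from hT ▸ Subring.mem_top c)
  letI : Algebra Γ(S, U) (S.presheaf.stalk s) := (S.presheaf.germ U s hsU).hom.toAlgebra
  haveI := hU.isLocalization_stalk ⟨s, hsU⟩
  obtain ⟨⟨a, t⟩, hat⟩ := IsLocalization.surj (hU.primeIdealOf ⟨s, hsU⟩).asIdeal.primeCompl
    ((Scheme.ΓSpecIso (S.presheaf.stalk s)).hom y)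
  have hi' : ∀ z : Γ(S, U), i.appLE U ⊤ hi z = (Scheme.ΓSpecIso (S.presheaf.stalk s)).inv (S.presheaf.germ U s hsU z) :=
    fun z => by
      rw [Scheme.Hom.appLE, Scheme.fromSpecStalk_app hsU]
      simp only [CommRingCat.comp_apply]
      exact (rres_rres _ _ _).trans (rres_self _ _)
  have hw : ∀ z : Γ(S, U), π.app W (baseFn f e z) =
      (pullback.snd f i).appLE ⊤ (π ⁻¹ᵁ W) (fun _ _ => trivial) (i.appLE U ⊤ hi z) := fun z => by
    rw [Scheme.Hom.app_eq_appLE]
    exact ConcreteCategory.congr_hom hpo.w z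
  refine ⟨t.1, (Scheme.mem_basicOpen S t.1 s hsU).2 (IsLocalization.map_units (S.presheaf.stalk s) t),
    baseFn f e a, ?_⟩
  rw [hw a, hw t.1, ← map_mul]
  congr 1
  rw [hi', hi']
  have h2 := congrArg (Scheme.ΓSpecIso (S.presheaf.stalk s)).inv hat
  rw [map_mul, ← CommRingCat.comp_apply, Iso.hom_inv_id] at h2
  exact h2.symm

theorem exists_kill (hU : IsAffineOpen U) (hsU : s ∈ U) (hW : IsAffineOpen W) (e : W ≤ f ⁻¹ᵁ U)
    (b : Γ(X, W)) (hb : (pullback.fst f (S.fromSpecStalk s)).app W b = 0) :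
    ∃ t ∈ nonVan U hsU, baseFn f e t * b = 0 := by
  let π := pullback.fst f (S.fromSpecStalk s)
  let i := S.fromSpecStalk s
  have hi : (⊤ : (Spec (S.presheaf.stalk s)).Opens) ≤ i ⁻¹ᵁ U := fun q _ =>
    ((Set.range_subset_iff.1 (Scheme.range_fromSpecStalk (X := S) (x := s)).le q) : i q ⤳ s).mem_open U.2 hsU
  have hpo := FEtPush.isPushout_appLE (IsPullback.of_hasPullback f i) hU hW (isAffineOpen_top _) e hi
    (UQ := π ⁻¹ᵁ W) (inf_eq_left.2 fun _ _ => trivial).symm le_rfl (fun _ _ => trivial)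
  let M : Submonoid Γ(X, W) := (nonVan U hsU).map (f.appLE U W e).hom
  letI : Algebra Γ(S, U) (S.presheaf.stalk s) := (S.presheaf.germ U s hsU).hom.toAlgebra
  haveI := hU.isLocalization_stalk ⟨s, hsU⟩
  let φ : Γ(S, U) →+* Localization M := (algebraMap Γ(X, W) (Localization M)).comp (f.appLE U W e).hom
  have hunit : ∀ t : (hU.primeIdealOf ⟨s, hsU⟩).asIdeal.primeCompl, IsUnit (φ t) := fun t =>
    IsLocalization.map_units (Localization M) (⟨f.appLE U W e t.1, ⟨t.1,
      (Scheme.mem_basicOpen S t.1 s hsU).2 (IsLocalization.map_units (S.presheaf.stalk s) t), rfl⟩⟩ : M)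
  let ψ : CommRingCat.of (S.presheaf.stalk s) ⟶ CommRingCat.of (Localization M) :=
    CommRingCat.ofHom (IsLocalization.lift hunit)
  have hw : f.appLE U W e ≫ CommRingCat.ofHom (algebraMap Γ(X, W) (Localization M)) =
      i.appLE U ⊤ hi ≫ ((Scheme.ΓSpecIso (S.presheaf.stalk s)).hom ≫ ψ) := by
    refine CommRingCat.hom_ext (RingHom.ext fun z => ?_)
    show φ z = ψ ((Scheme.ΓSpecIso (S.presheaf.stalk s)).hom (i.appLE U ⊤ hi z))
    have : i.appLE U ⊤ hi z = (Scheme.ΓSpecIso (S.presheaf.stalk s)).inv (S.presheaf.germ U s hsU z) := by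
      rw [Scheme.Hom.appLE, Scheme.fromSpecStalk_app hsU]
      simp only [CommRingCat.comp_apply]
      exact (rres_rres _ _ _).trans (rres_self _ _)
    rw [this, ← CommRingCat.comp_apply _ (Scheme.ΓSpecIso (S.presheaf.stalk s)).hom, Iso.inv_hom_id]
    exact (IsLocalization.lift_eq hunit z).symm
  have h1 := ConcreteCategory.congr_hom (hpo.inl_desc _ _ hw) b
  rw [Scheme.Hom.app_eq_appLE] at hb
  have h2 : algebraMap Γ(X, W) (Localization M) b = 0 := by
    refine h1.symm.trans ?_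
    rw [CommRingCat.comp_apply]
    exact (congrArg _ hb).trans (map_zero _)
  obtain ⟨⟨_, t, ht, rfl⟩, hm⟩ := (IsLocalization.map_eq_zero_iff M _ b).1 h2
  exact ⟨t, ht, hm⟩

end Groth.Agent.PicSpreadLoc
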