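import Groth.Agent.PicSpreadLoc.Loc
import Groth.Agent.S10963
import Groth.Agent.S10964
import Mathlib.AlgebraicGeometry.Morphisms.Proper

/-! # An invertible module over the local ring of a point of the base spreads out -/

set_option autoImplicit false
set_option linter.style.haveILetI false
set_option backward.isDefEq.respectTransparency false
set_option backward.isDefEq.respectTransparency.types false

universe u

open CategoryTheory CategoryTheory.Limits AlgebraicGeometry Opposite TopologicalSpace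

noncomputable section

namespace Groth.Agent.PicSpreadLoc

open Groth.Agent.QCoh Groth.Agent.Props.GenLocus

variable {X S : Scheme.{u}}

lemma app_app_eq {Q Y : Scheme.{u}} {π : Q ⟶ X} {j : Q ⟶ Y} {ι : Y ⟶ X} (h : j ≫ ι = π) {W : X.Opens}
    (hle : j ⁻¹ᵁ (ι ⁻¹ᵁ W) ≤ π ⁻¹ᵁ W) (b : Γ(X, W)) :
    j.app (ι ⁻¹ᵁ W) (ι.app W b) = rres hle (π.app W b) := by
  subst h
  exact (rres_self _ _).symm

theorem exists_spread (f : X ⟶ S) [IsProper f] (s : S)
    (L : (pullback f (S.fromSpecStalk s)).Modules) (hL : PicF.IsInvertible L) :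
    ∃ (V : S.Opens) (_ : s ∈ V) (L' : (↑(f ⁻¹ᵁ V) : Scheme.{u}).Modules), PicF.IsInvertible L' ∧
      ∀ (j : pullback f (S.fromSpecStalk s) ⟶ ↑(f ⁻¹ᵁ V)),
        j ≫ (f ⁻¹ᵁ V).ι = pullback.fst f (S.fromSpecStalk s) →
        Nonempty ((Scheme.Modules.pullback j).obj L' ≅ L) := by
  classical
  let i := S.fromSpecStalk s
  let π := pullback.fst f i
  obtain ⟨_, ⟨U, hU, rfl⟩, hsU, -⟩ :=
    S.isBasis_affineOpens.exists_subset_of_mem_open (Set.mem_univ s) isOpen_univ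
  haveI : IsPreimmersion π := MorphismProperty.pullback_fst _ _ inferInstance
  haveI : CompactSpace ↥(pullback f i) := QuasiCompact.compactSpace_of_compactSpace (pullback.snd f i)
  have hind : Topology.IsInducing π := π.isEmbedding.isInducing
  have hπU : ∀ q, π q ∈ f ⁻¹ᵁ U := fun q => by
    show f (π q) ∈ U
    rw [← Scheme.Hom.comp_apply, pullback.condition, Scheme.Hom.comp_apply]
    exact ((Set.range_subset_iff.1 (Scheme.range_fromSpecStalk (X := S) (x := s)).le _) :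
      i (pullback.snd f i q) ⤳ s).mem_open U.2 hsU
  have hpt : ∀ q, ∃ (V : X.Opens) (e : Γ(L, π ⁻¹ᵁ V)),
      IsAffineOpen V ∧ V ≤ f ⁻¹ᵁ U ∧ π q ∈ V ∧ IsGen L (π ⁻¹ᵁ V) e := fun q => by
    obtain ⟨A, e, hqA, he⟩ := exists_isGen hL q
    obtain ⟨O, hO, hOA⟩ := hind.isOpen_iff.1 A.2
    have hqO : π q ∈ O := by
      have : q ∈ π ⁻¹' O := hOA ▸ hqA
      exact this
    obtain ⟨_, ⟨V, hV, rfl⟩, hxV, hVO⟩ := X.isBasis_affineOpens.exists_subset_of_mem_open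
      (⟨hqO, hπU q⟩ : π q ∈ O ∩ (f ⁻¹ᵁ U : X.Opens)) (hO.inter (f ⁻¹ᵁ U).2)
    have hle : π ⁻¹ᵁ V ≤ A := fun y hy => by
      have : y ∈ π ⁻¹' O := (hVO hy).1
      rwa [hOA] at this
    exact ⟨V, res L hle e, hV, fun y hy => (hVO hy).2, hxV, he.restrict hle⟩
  choose V₀ e₀ hV₀ hV₀U hqV₀ he₀ using hpt
  obtain ⟨F, hF⟩ := (isCompact_univ (X := ↥(pullback f i))).elim_finite_subcover
    (fun q => π ⁻¹' (V₀ q : Set X)) (fun q => (V₀ q).2.preimage π.continuous)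
    (fun q _ => Set.mem_iUnion.2 ⟨q, hqV₀ q⟩)
  let ι : Type u := (F : Set ↥(pullback f i))
  haveI : Finite ι := F.finite_toSet.to_subtype
  haveI := Fintype.ofFinite ι
  let W : ι → X.Opens := fun a => V₀ a.1
  have hWU : ∀ a, W a ≤ f ⁻¹ᵁ U := fun a => hV₀U _
  have hW : ∀ a, IsAffineOpen (W a) := fun a => hV₀ _
  let g : ∀ a : ι, Γ(L, π ⁻¹ᵁ W a) := fun a => e₀ a.1
  have hg : ∀ a, IsGen L (π ⁻¹ᵁ W a) (g a) := fun a => he₀ _
  have hW2 : ∀ a b, IsAffineOpen (W a ⊓ W b) := fun a b =>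
    (isAffineHom_diagonal_iff.mp (inferInstance : IsAffineHom (pullback.diagonal f))) U hU _ (hWU a) _ (hWU b)
      (hW a) (hW b)
  have hW2U : ∀ a b, W a ⊓ W b ≤ f ⁻¹ᵁ U := fun a b => inf_le_left.trans (hWU a)
  have hW3 : ∀ a b c, IsAffineOpen (W a ⊓ W b ⊓ W c) := fun a b c =>
    (isAffineHom_diagonal_iff.mp (inferInstance : IsAffineHom (pullback.diagonal f))) U hU _ (hW2U a b) _ (hWU c)
      (hW2 a b) (hW c)
  have hdata : ∀ a b : ι, ∃ (c : Γ(pullback f i, π ⁻¹ᵁ (W a ⊓ W b))) (t : nonVan U hsU)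
      (t' u : nonVan U hsU) (x x' : Γ(X, W a ⊓ W b)),
      res L (π.preimage_mono inf_le_left) (g a) = c • res L (π.preimage_mono inf_le_right) (g b) ∧
      π.app _ x = c * π.app _ (baseFn f (hW2U a b) t.1) ∧
      baseFn f (hW2U a b) u.1 * (x * x') = baseFn f (hW2U a b) (u.1 * (t.1 * t'.1)) := fun a b => by
    have h1 := (hg a).restrict (π.preimage_mono (inf_le_left : W a ⊓ W b ≤ W a))
    have h2 := (hg b).restrict (π.preimage_mono (inf_le_right : W a ⊓ W b ≤ W b))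
    obtain ⟨c, hc, -⟩ := h2.exists_eq le_rfl (res L (π.preimage_mono inf_le_left) (g a))
    obtain ⟨c', hc', -⟩ := h1.exists_eq le_rfl (res L (π.preimage_mono inf_le_right) (g b))
    rw [res_self] at hc hc'
    have hcc : c * c' = 1 := by
      refine h1.injective le_rfl ?_
      rw [res_self, mul_smul, one_smul, ← hc']
      exact hc.symm
    obtain ⟨t, ht, x, hx⟩ := exists_fraction f s hU hsU (hW2 a b) (hW2U a b) c
    obtain ⟨t', ht', x', hx'⟩ := exists_fraction f s hU hsU (hW2 a b) (hW2U a b) c'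
    obtain ⟨u, hu, hux⟩ := exists_kill f s hU hsU (hW2 a b) (hW2U a b)
      (x * x' - baseFn f (hW2U a b) (t * t')) (by
        simp only [baseFn, map_mul, map_sub] at hx hx' ⊢
        rw [hx, hx', mul_mul_mul_comm, hcc, one_mul, sub_self])
    refine ⟨c, ⟨t, ht⟩, ⟨t', ht'⟩, ⟨u, hu⟩, x, x', hc, hx, ?_⟩
    rw [mul_sub, sub_eq_zero] at hux
    exact hux.trans (map_mul (f.appLE U (W a ⊓ W b) (hW2U a b)).hom u (t * t')).symm
  choose c t t' u x x' hc hx hxx using hdata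
  have l12 : ∀ a b d, W a ⊓ W b ⊓ W d ≤ W a ⊓ W b := fun a b d => inf_le_left
  have l13 : ∀ a b d, W a ⊓ W b ⊓ W d ≤ W a ⊓ W d := fun a b d => inf_le_inf_right (W d) inf_le_left
  have l23 : ∀ a b d, W a ⊓ W b ⊓ W d ≤ W b ⊓ W d := fun a b d => inf_le_inf_right (W d) inf_le_right
  have hW3U : ∀ a b d, W a ⊓ W b ⊓ W d ≤ f ⁻¹ᵁ U := fun a b d => (l12 a b d).trans (hW2U a b)
  have hcoc : ∀ a b d, rres (π.preimage_mono (l13 a b d)) (c a d) =
      rres (π.preimage_mono (l12 a b d)) (c a b) * rres (π.preimage_mono (l23 a b d)) (c b d) := fun a b d => by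
    refine (hg d).injective (π.preimage_mono (inf_le_right : W a ⊓ W b ⊓ W d ≤ W d)) ?_
    have hr : ∀ (a b : ι) {T : X.Opens} (h : T ≤ W a ⊓ W b),
        res L (π.preimage_mono (h.trans inf_le_left)) (g a) =
        rres (π.preimage_mono h) (c a b) • res L (π.preimage_mono (h.trans inf_le_right)) (g b) := fun a b T h => by
      have h1 := congrArg (res L (π.preimage_mono h)) (hc a b)
      rw [res_res, res_smul, res_res] at h1
      exact h1
    rw [mul_smul, ← hr b d (l23 a b d), ← hr a b (l12 a b d), ← hr a d (l13 a b d)]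
  have hkill : ∀ a b d, ∃ w : nonVan U hsU, baseFn f (hW3U a b d) w.1 *
      (rres (l13 a b d) (x a d) * baseFn f (hW3U a b d) ((t a b).1 * (t b d).1) -
        rres (l12 a b d) (x a b) * rres (l23 a b d) (x b d) * baseFn f (hW3U a b d) (t a d).1) = 0 := fun a b d => by
    obtain ⟨w, hw, hw'⟩ := exists_kill f s hU hsU (hW3 a b d) (hW3U a b d)
      (rres (l13 a b d) (x a d) * baseFn f (hW3U a b d) ((t a b).1 * (t b d).1) -
        rres (l12 a b d) (x a b) * rres (l23 a b d) (x b d) * baseFn f (hW3U a b d) (t a d).1) (by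
      simp only [map_sub, map_mul, baseFn]
      rw [Props.GenPull.app_rres, Props.GenPull.app_rres, Props.GenPull.app_rres, hx, hx, hx]
      simp only [map_mul]
      rw [← Props.GenPull.app_rres π (l13 a b d), ← Props.GenPull.app_rres π (l12 a b d), ← Props.GenPull.app_rres π (l23 a b d), rres_baseFn, rres_baseFn,
        rres_baseFn, hcoc a b d]
      ring)
    exact ⟨⟨w, hw⟩, hw'⟩
  choose w hw using hkill
  let G : nonVan U hsU :=
    (∏ p : ι × ι, t p.1 p.2 * t' p.1 p.2 * u p.1 p.2) * ∏ p : ι × ι × ι, w p.1 p.2.1 p.2.2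
  let O : X.Opens := iSup W
  let C : S.Opens := ⟨(f '' (O : Set X)ᶜ)ᶜ, (f.isClosedMap _ O.2.isClosed_compl).isOpen_compl⟩
  let V : S.Opens := S.basicOpen G.1 ⊓ C
  have hsC : s ∈ C := by
    rintro ⟨z, hz, hzs⟩
    obtain ⟨q, hq, -⟩ := Scheme.Pullback.exists_preimage_pullback (f := f) (g := i) z
      (IsLocalRing.closedPoint (S.presheaf.stalk s)) (hzs.trans Scheme.fromSpecStalk_closedPoint.symm)
    obtain ⟨a, ha, hqa⟩ := Set.mem_iUnion₂.1 (hF (Set.mem_univ q))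
    refine hz ?_
    rw [← hq]
    exact Opens.mem_iSup.2 ⟨⟨a, ha⟩, hqa⟩
  let Y : Scheme.{u} := (f ⁻¹ᵁ V).toScheme
  let ρ : Y ⟶ X := (f ⁻¹ᵁ V).ι
  have hρV : ∀ y : Y, f (ρ y) ∈ V := fun y => y.2
  have hunit : ∀ (Z : X.Opens) (hZ : Z ≤ f ⁻¹ᵁ U) (z : nonVan U hsU), z ∣ G →
      IsUnit (ρ.app Z (baseFn f hZ z.1)) := fun Z hZ z hz => by
    obtain ⟨z', hz'⟩ := hz
    refine isUnit_of_mul_isUnit_left (y := ρ.app Z (baseFn f hZ z'.1)) ?_
    rw [← map_mul, show baseFn f hZ z.1 * baseFn f hZ z'.1 = baseFn f hZ G.1 from by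
      rw [hz']; exact (map_mul (f.appLE U Z hZ).hom z.1 z'.1).symm]
    have hb : S.basicOpen G.1 ≤ U := S.basicOpen_le G.1
    have hle : ρ ⁻¹ᵁ Z ≤ (ρ ≫ f) ⁻¹ᵁ S.basicOpen G.1 := fun y _ => (hρV y).1
    have e1 : ρ.app Z (baseFn f hZ G.1) =
        (ρ ≫ f).appLE (S.basicOpen G.1) (ρ ⁻¹ᵁ Z) hle (S.presheaf.map (homOfLE hb).op G.1) := by
      rw [← CommRingCat.comp_apply, ← CommRingCat.comp_apply, Scheme.Hom.map_appLE,
        Scheme.Hom.app_eq_appLE, Scheme.Hom.appLE_comp_appLE]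
    rw [e1]
    exact ((S.toRingedSpace.isUnit_res_basicOpen G.1)).map
      ((ρ ≫ f).appLE (S.basicOpen G.1) (ρ ⁻¹ᵁ Z) hle).hom
  have dt : ∀ a b, t a b ∣ G := fun a b => ((dvd_mul_right (t a b) (t' a b)).mul_right (u a b)).trans
    ((Finset.dvd_prod_of_mem (fun p : ι × ι => t p.1 p.2 * t' p.1 p.2 * u p.1 p.2)
      (Finset.mem_univ (a, b))).mul_right _)
  have dt' : ∀ a b, t' a b ∣ G := fun a b => ((dvd_mul_left (t' a b) (t a b)).mul_right (u a b)).trans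
    ((Finset.dvd_prod_of_mem (fun p : ι × ι => t p.1 p.2 * t' p.1 p.2 * u p.1 p.2)
      (Finset.mem_univ (a, b))).mul_right _)
  have du : ∀ a b, u a b ∣ G := fun a b => (dvd_mul_left (u a b) (t a b * t' a b)).trans
    ((Finset.dvd_prod_of_mem (fun p : ι × ι => t p.1 p.2 * t' p.1 p.2 * u p.1 p.2)
      (Finset.mem_univ (a, b))).mul_right _)
  have dw : ∀ a b d, w a b d ∣ G := fun a b d =>
    (Finset.dvd_prod_of_mem (fun p : ι × ι × ι => w p.1 p.2.1 p.2.2) (Finset.mem_univ (a, b, d))).mul_left _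
  have hxu : ∀ a b, IsUnit (ρ.app (W a ⊓ W b) (x a b)) := fun a b => by
    refine isUnit_of_mul_isUnit_left (y := ρ.app _ (x' a b)) ?_
    refine isUnit_of_mul_isUnit_right (x := ρ.app _ (baseFn f (hW2U a b) (u a b).1)) ?_
    rw [← map_mul, ← map_mul, hxx]
    simp only [baseFn, map_mul]
    exact (hunit _ _ _ (du a b)).mul ((hunit _ _ _ (dt a b)).mul (hunit _ _ _ (dt' a b)))
  let η : ∀ a b, (Γ(Y, ρ ⁻¹ᵁ W a ⊓ ρ ⁻¹ᵁ W b))ˣ := fun a b =>
    (hxu a b).unit * (hunit _ (hW2U a b) _ (dt a b)).unit⁻¹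
  have hη : ∀ a b, (show Γ(Y, ρ ⁻¹ᵁ (W a ⊓ W b)) from (η a b).val) * ρ.app _ (baseFn f (hW2U a b) (t a b).1) =
      ρ.app _ (x a b) := fun a b => by
    have := congrArg Units.val (inv_mul_cancel_right (hxu a b).unit (hunit _ (hW2U a b) _ (dt a b)).unit)
    exact this
  have hcov : iSup (fun a => ρ ⁻¹ᵁ W a) = ⊤ := top_unique fun y _ => by
    have h1 : ρ y ∈ O := by
      by_contra h
      exact (hρV y).2 ⟨ρ y, h, rfl⟩
    obtain ⟨a, ha⟩ := Opens.mem_iSup.1 h1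
    exact Opens.mem_iSup.2 ⟨a, ha⟩
  obtain ⟨L', σ, hL', hσ, hσrel⟩ := Groth.Agent.S10963.result Y (fun a => ρ ⁻¹ᵁ W a) hcov η (fun a b d => by
    have hz := congrArg (ρ.app (W a ⊓ W b ⊓ W d)) (hw a b d)
    rw [map_mul, map_zero, (hunit _ (hW3U a b d) _ (dw a b d)).mul_right_eq_zero, map_sub, sub_eq_zero] at hz
    simp only [baseFn, map_mul] at hz
    rw [Props.GenPull.app_rres, Props.GenPull.app_rres, Props.GenPull.app_rres] at hz
    rw [← hη, ← hη, ← hη] at hz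
    simp only [map_mul] at hz
    rw [← Props.GenPull.app_rres ρ (l13 a b d), ← Props.GenPull.app_rres ρ (l12 a b d), ← Props.GenPull.app_rres ρ (l23 a b d), rres_baseFn, rres_baseFn,
      rres_baseFn] at hz
    show rres (ρ.preimage_mono (l13 a b d)) (show Γ(Y, ρ ⁻¹ᵁ (W a ⊓ W d)) from (η a d).val) =
      rres (ρ.preimage_mono (l12 a b d)) (show Γ(Y, ρ ⁻¹ᵁ (W a ⊓ W b)) from (η a b).val) *
        rres (ρ.preimage_mono (l23 a b d)) (show Γ(Y, ρ ⁻¹ᵁ (W b ⊓ W d)) from (η b d).val)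
    have hu3 := (hunit _ (hW3U a b d) _ (dt a d)).mul
      ((hunit _ (hW3U a b d) _ (dt a b)).mul (hunit _ (hW3U a b d) _ (dt b d)))
    refine hu3.mul_right_cancel ?_
    linear_combination hz)
  refine ⟨V, ⟨G.2, hsC⟩, L', hL', fun j hj => ?_⟩
  have hle : ∀ Z : X.Opens, j ⁻¹ᵁ (ρ ⁻¹ᵁ Z) ≤ π ⁻¹ᵁ Z := fun Z y hy => by
    show π y ∈ Z
    rw [show π = j ≫ ρ from hj.symm, Scheme.Hom.comp_apply]
    exact hy
  refine (Groth.Agent.S10964.result _ (fun a => j ⁻¹ᵁ (ρ ⁻¹ᵁ W a)) ?_ _ L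
    (fun a => Props.GenPull.pb j (σ a)) (fun a => res L (hle (W a)) (g a))
    (fun a Z h => Props.GenPull.isGen_pb j (fun V h => hσ a V h) Z h) (fun a Z h => (hg a).restrict (hle _) Z h)
    (fun a b => j.app (ρ ⁻¹ᵁ W a ⊓ ρ ⁻¹ᵁ W b) (η a b : Γ(Y, ρ ⁻¹ᵁ W a ⊓ ρ ⁻¹ᵁ W b)))
    (fun a b => j.app (ρ ⁻¹ᵁ W a ⊓ ρ ⁻¹ᵁ W b) (η a b : Γ(Y, ρ ⁻¹ᵁ W a ⊓ ρ ⁻¹ᵁ W b))) (fun a b => ?_)
    (fun a b => ?_)).2 ⟨fun _ => 1, fun a b => ?_⟩
  · refine top_unique fun y _ => ?_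
    obtain ⟨a, ha⟩ := Opens.mem_iSup.1 (hcov.ge (Set.mem_univ (j y)))
    exact Opens.mem_iSup.2 ⟨a, ha⟩
  · have h1 := congrArg (LFFrame.unitSec j L' (ρ ⁻¹ᵁ W a ⊓ ρ ⁻¹ᵁ W b)) (hσrel a b)
    rw [LFFrame.unitSec_smul, LFFrame.unitSec_res, LFFrame.unitSec_res] at h1
    exact h1
  · show res L inf_le_left (res L (hle _) (g a)) = _ • res L inf_le_right (res L (hle _) (g b))
    rw [res_res, res_res]
    have h1 := congrArg (res L (hle (W a ⊓ W b))) (hc a b)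
    rw [res_res, res_smul, res_res] at h1
    refine h1.trans (congrArg (· • _) ?_)
    have hu : IsUnit (j.app (ρ ⁻¹ᵁ (W a ⊓ W b)) (ρ.app _ (baseFn f (hW2U a b) (t a b).1))) :=
      (hunit _ _ _ (dt a b)).map (j.app _).hom
    refine hu.mul_right_cancel ?_
    have h2 := congrArg (j.app (ρ ⁻¹ᵁ (W a ⊓ W b))) (hη a b)
    rw [map_mul] at h2
    refine Eq.trans ?_ h2.symm
    rw [app_app_eq hj (hle _), app_app_eq hj (hle _), hx, map_mul]
  · simp only [Units.val_one, map_one, mul_one, one_mul]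

end Groth.Agent.PicSpreadLoc
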